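import Mathlib

/-!
# Compact objects among perfect algebras
-/

universe u

open CategoryTheory CategoryTheory.Limits

namespace Groth.Agent.H6FrobAlg

variable (p : ℕ) [Fact p.Prime] (B : CommRingCat.{u})

/-- Perfect algebras over `B`. -/
abbrev Perf := ObjectProperty.FullSubcategory
  fun Y : Under B => (p : Y.right) = 0 ∧ Function.Bijective fun y : Y.right => y ^ p

variable {p B}

/-- The underlying ring map. -/
abbrev hom' {X Y : Perf p B} (f : X ⟶ Y) : X.obj.right →+* Y.obj.right := f.hom.right.hom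

theorem hom_w {X Y : Perf p B} (f : X ⟶ Y) (b : B) : hom' f (X.obj.hom.hom b) = Y.obj.hom.hom b :=
  congrArg (fun t => t.hom b) (Under.w f.hom)

theorem perf_ext {X Y : Perf p B} {f g : X ⟶ Y} (h : ∀ x, hom' f x = hom' g x) : f = g := by
  refine ObjectProperty.hom_ext _ ?_
  refine Under.UnderMorphism.ext ?_
  ext x
  exact h x

/-- A morphism from a compatible ring map. -/
def mkPerfHom {X Y : Perf p B} (g : X.obj.right →+* Y.obj.right) (hg : ∀ b, g (X.obj.hom.hom b) = Y.obj.hom.hom b) :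
    X ⟶ Y :=
  ObjectProperty.homMk (Under.homMk (CommRingCat.ofHom g) (by ext b; exact hg b))

section Colimit

variable {J : Type u} [SmallCategory J] [IsFiltered J] {D : J ⥤ Perf p B} {c : Cocone D}

theorem nonempty_isColimit (hsurj : ∀ a : c.pt.obj.right, ∃ (j : J) (x : (D.obj j).obj.right), hom' (c.ι.app j) x = a)
    (hinj : ∀ (j : J) (x y : (D.obj j).obj.right), hom' (c.ι.app j) x = hom' (c.ι.app j) y →
      ∃ (k : J) (f : j ⟶ k), hom' (D.map f) x = hom' (D.map f) y) : Nonempty (IsColimit c) := by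
  refine ⟨IsColimit.ofExistsUnique fun s => ?_⟩
  choose j x hx using hsurj
  let g : c.pt.obj.right → s.pt.obj.right := fun a => hom' (s.ι.app (j a)) (x a)
  have hc : ∀ {i k} (f : i ⟶ k) y, hom' (c.ι.app k) (hom' (D.map f) y) = hom' (c.ι.app i) y := fun f y =>
    congrArg (fun t => hom' t y) (c.w f)
  have hs : ∀ {i k} (f : i ⟶ k) y, hom' (s.ι.app k) (hom' (D.map f) y) = hom' (s.ι.app i) y := fun f y =>
    congrArg (fun t => hom' t y) (s.w f)
  have hg : ∀ i y, g (hom' (c.ι.app i) y) = hom' (s.ι.app i) y := by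
    intro i y
    let a := hom' (c.ι.app i) y
    obtain ⟨k, f, hf⟩ := hinj (IsFiltered.max (j a) i) (hom' (D.map (IsFiltered.leftToMax _ _)) (x a))
      (hom' (D.map (IsFiltered.rightToMax _ _)) y) (by rw [hc, hc, hx])
    have := congrArg (hom' (s.ι.app k)) hf
    rw [hs, hs, hs, hs] at this
    exact this
  have hop : ∀ (a b : c.pt.obj.right), ∃ i u v, hom' (c.ι.app i) u = a ∧ hom' (c.ι.app i) v = b := fun a b =>
    ⟨IsFiltered.max (j a) (j b), hom' (D.map (IsFiltered.leftToMax _ _)) (x a),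
      hom' (D.map (IsFiltered.rightToMax _ _)) (x b), by rw [hc, hx], by rw [hc, hx]⟩
  let gh : c.pt.obj.right →+* s.pt.obj.right :=
    { toFun := g
      map_one' := by
        obtain ⟨i⟩ := (IsFiltered.nonempty : Nonempty J)
        simpa using hg i 1
      map_zero' := by
        obtain ⟨i⟩ := (IsFiltered.nonempty : Nonempty J)
        simpa using hg i 0
      map_mul' := fun a b => by
        obtain ⟨i, u, v, rfl, rfl⟩ := hop a b
        rw [← map_mul, hg, hg, hg, map_mul]
      map_add' := fun a b => by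
        obtain ⟨i, u, v, rfl, rfl⟩ := hop a b
        rw [← map_add, hg, hg, hg, map_add] }
  refine ⟨mkPerfHom gh (fun b => ?_), fun i => perf_ext fun y => hg i y, fun m hm => perf_ext fun a => ?_⟩
  · obtain ⟨i⟩ := (IsFiltered.nonempty : Nonempty J)
    exact (congrArg g (hom_w (c.ι.app i) b)).symm.trans ((hg i _).trans (hom_w (s.ι.app i) b))
  · obtain ⟨i, u, -, rfl, -⟩ := hop a a
    exact (congrArg (fun t => hom' t u) (hm i)).trans (hg i u).symm

end Colimit

theorem isPRadical_of_subsingleton {R S : Type u} [CommRing R] [CommRing S] [Subsingleton S] [Subsingleton R]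
    (k : R →+* S) : IsPRadical k p where
  pow_mem' _ := ⟨0, 0, Subsingleton.elim _ _⟩
  ker_le' x _ := by rw [Subsingleton.elim x 0]; exact zero_mem _

section Nontrivial

variable [CharP B p] [PerfectRing B p] (A : Perf p B)

theorem exists_generators [Nontrivial A.obj.right] [IsFinitelyPresentable.{u} A] :
    ∃ (n : ℕ) (π : MvPolynomial (Fin n) B →+* A.obj.right),
      π.comp MvPolynomial.C = A.obj.hom.hom ∧ ∀ a : A.obj.right, ∃ m x, π x = a ^ p ^ m := by
  classical
  haveI : CharP A.obj.right p := (CharP.charP_iff_prime_eq_zero (Fact.out : p.Prime)).2 A.property.1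
  letI : Algebra B A.obj.right := A.obj.hom.hom.toAlgebra
  let Cl : Finset A.obj.right → Subalgebra B A.obj.right := fun S =>
    { carrier := {a | ∃ n, a ^ p ^ n ∈ Algebra.adjoin B (S : Set A.obj.right)}
      mul_mem' := by
        rintro a b ⟨n, hn⟩ ⟨m, hm⟩
        refine ⟨n + m, ?_⟩
        rw [mul_pow]
        refine mul_mem ?_ ?_
        · rw [pow_add, pow_mul]
          exact pow_mem hn _
        · rw [pow_add, mul_comm, pow_mul]
          exact pow_mem hm _
      add_mem' := by
        rintro a b ⟨n, hn⟩ ⟨m, hm⟩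
        refine ⟨n + m, ?_⟩
        rw [add_pow_char_pow]
        refine add_mem ?_ ?_
        · rw [pow_add, pow_mul]
          exact pow_mem hn _
        · rw [pow_add, mul_comm, pow_mul]
          exact pow_mem hm _
      algebraMap_mem' := fun b => ⟨0, by rw [pow_zero, pow_one]; exact Subalgebra.algebraMap_mem _ b⟩ }
  have hCl : ∀ S, ((p : ↥(Cl S)) = 0) ∧ Function.Bijective fun y : ↥(Cl S) => y ^ p := fun S => by
    refine ⟨Subtype.ext ?_, fun y y' h => Subtype.ext (A.property.2.1 (congrArg Subtype.val h)), fun y => ?_⟩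
    · push_cast
      exact A.property.1
    · obtain ⟨r, hr⟩ := A.property.2.2 y.1
      obtain ⟨n, hn⟩ := y.2
      exact ⟨⟨r, n + 1, by rw [pow_succ', pow_mul, show r ^ p = y.1 from hr]; exact hn⟩, Subtype.ext hr⟩
  have hmono : ∀ {S T : Finset A.obj.right}, S ≤ T → Cl S ≤ Cl T := fun {S T} h a ⟨n, hn⟩ =>
    ⟨n, Algebra.adjoin_mono (Finset.coe_subset.2 h) hn⟩
  let D : Finset A.obj.right ⥤ Perf p B :=
    { obj := fun S => ⟨Under.mk (CommRingCat.ofHom (algebraMap B ↥(Cl S))), hCl S⟩
      map := fun {S T} f => mkPerfHom (Subalgebra.inclusion (hmono f.le)).toRingHom (fun b => rfl)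
      map_id := fun S => perf_ext fun x => rfl
      map_comp := fun f g => perf_ext fun x => rfl }
  let c : Cocone D := Cocone.mk A
    { app := fun S => mkPerfHom (Cl S).val.toRingHom (fun b => rfl)
      naturality := fun S T f => perf_ext fun x => rfl }
  obtain ⟨hc⟩ := nonempty_isColimit (c := c)
    (fun a => ⟨{a}, ⟨a, 0, by rw [pow_zero, pow_one]; exact Algebra.subset_adjoin (by simp)⟩, rfl⟩)
    (fun S x y h => ⟨S, 𝟙 S, by
      have : x = y := Subtype.ext h
      rw [this]⟩)
  obtain ⟨S, s, hs⟩ := IsFinitelyPresentable.exists_hom_of_isColimit hc (𝟙 A)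
  let e : Fin S.card → A.obj.right := fun i => (S.equivFin.symm i).1
  refine ⟨S.card, (MvPolynomial.aeval (R := B) e).toRingHom, RingHom.ext fun b => MvPolynomial.aeval_C _ b, fun a => ?_⟩
  have ha : a ∈ Cl S := by
    let s' : A.obj.right →+* ↥(Cl S) := hom' s
    have h1 : (s' a).1 = a := congrArg (fun t => hom' t a) hs
    exact h1 ▸ (s' a).2
  obtain ⟨m, hm⟩ := ha
  have hrange : Algebra.adjoin B (S : Set A.obj.right) = (MvPolynomial.aeval (R := B) e).range := by
    rw [← Algebra.adjoin_range_eq_range_aeval]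
    congr 1
    ext y
    exact ⟨fun hy => ⟨S.equivFin ⟨y, hy⟩, by simp [e]⟩, fun ⟨i, hi⟩ => hi ▸ (S.equivFin.symm i).2⟩
  rw [hrange] at hm
  obtain ⟨x, hx⟩ := hm
  exact ⟨m, x, hx⟩

theorem exists_model [Nontrivial A.obj.right] [IsFinitelyPresentable.{u} A] :
    ∃ (A₀ : Type u) (_ : CommRing A₀) (_ : Algebra B A₀) (_ : Algebra.FinitePresentation B A₀)
      (k : A₀ →+* A.obj.right), k.comp (algebraMap B A₀) = A.obj.hom.hom ∧ IsPRadical k p := by
  classical
  haveI : CharP A.obj.right p := (CharP.charP_iff_prime_eq_zero (Fact.out : p.Prime)).2 A.property.1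
  haveI : PerfectRing A.obj.right p := ⟨A.property.2⟩
  obtain ⟨n, π, hπC, hgen⟩ := exists_generators A
  let P := MvPolynomial (Fin n) B
  let J := {T : Finset P // ∀ t ∈ T, π t = 0}
  haveI : IsDirectedOrder J := ⟨fun T T' => ⟨⟨T.1 ∪ T'.1, fun t ht => (Finset.mem_union.1 ht).elim (T.2 t) (T'.2 t)⟩,
    Finset.subset_union_left, Finset.subset_union_right⟩⟩
  haveI : Nonempty J := ⟨⟨∅, by simp⟩⟩
  let I : J → Ideal P := fun T => Ideal.span (T.1 : Set P)
  have hI : ∀ T, ∀ x ∈ I T, π x = 0 := fun T x hx =>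
    (Ideal.span_le.2 (fun t ht => T.2 t ht) : I T ≤ RingHom.ker π) hx
  let πT : ∀ T, P ⧸ I T →+* A.obj.right := fun T => Ideal.Quotient.lift (I T) π (hI T)
  haveI hnt : ∀ T, Nontrivial (P ⧸ I T) := fun T => (πT T).domain_nontrivial
  haveI hch : ∀ T, CharP (P ⧸ I T) p := fun T => (CharP.charP_iff_prime_eq_zero (Fact.out : p.Prime)).2 (by
    rw [← map_natCast ((Ideal.Quotient.mk (I T)).comp (MvPolynomial.C : B →+* P)), CharP.cast_eq_zero, map_zero])
  let of' : ∀ T, P ⧸ I T →+* PerfectClosure (P ⧸ I T) p := fun T => PerfectClosure.of _ p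
  have hext : ∀ (T : J) {R : Type u} [CommRing R] [CharP R p] [PerfectRing R p]
      (f g : PerfectClosure (P ⧸ I T) p →+* R), (∀ x, f (of' T x) = g (of' T x)) → f = g := by
    intro T R _ _ _ f g h
    refine RingHom.ext fun z => ?_
    obtain ⟨m, y, hy⟩ := IsPRadical.pow_mem (of' T) p z
    refine iterateFrobeniusEquiv R p m |>.injective ?_
    rw [iterateFrobeniusEquiv_def, iterateFrobeniusEquiv_def, ← map_pow, ← map_pow, ← hy, h]
  let trans : ∀ {T T' : J}, T ≤ T' → (P ⧸ I T →+* P ⧸ I T') := fun {T T'} h =>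
    Ideal.Quotient.factor (Ideal.span_mono (Finset.coe_subset.2 h))
  let L : ∀ T, PerfectClosure (P ⧸ I T) p →+* A.obj.right := fun T => PerfectRing.lift (of' T) (πT T) p
  have hL : ∀ T x, L T (of' T x) = πT T x := fun T x => PerfectRing.lift_comp_apply _ _ p x
  let M : ∀ {T T' : J}, T ≤ T' → (PerfectClosure (P ⧸ I T) p →+* PerfectClosure (P ⧸ I T') p) := fun {T T'} h =>
    PerfectRing.lift (of' T) ((of' T').comp (trans h)) p
  have hM : ∀ {T T' : J} (h : T ≤ T') (x : P ⧸ I T), M h (of' T x) = of' T' (trans h x) := fun {T T'} h x =>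
    PerfectRing.lift_comp_apply (of' T) ((of' T').comp (trans h)) p x
  have hMid : ∀ T : J, M (le_refl T) = RingHom.id _ := fun T => hext T _ _ fun x => by
    obtain ⟨x, rfl⟩ := Ideal.Quotient.mk_surjective x
    rw [hM (le_refl T)]
    rfl
  have hMcomp : ∀ {T T' T'' : J} (h : T ≤ T') (h' : T' ≤ T''), M (h.trans h') = (M h').comp (M h) :=
    fun {T T' T''} h h' => hext T _ _ fun x => by
      obtain ⟨x, rfl⟩ := Ideal.Quotient.mk_surjective x
      rw [hM (h.trans h'), RingHom.comp_apply, hM h, hM h']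
      rfl
  have hLM : ∀ {T T' : J} (h : T ≤ T'), (L T').comp (M h) = L T := fun {T T'} h => hext T _ _ fun x => by
    obtain ⟨x, rfl⟩ := Ideal.Quotient.mk_surjective x
    rw [RingHom.comp_apply, hM h, hL, hL]
    rfl
  let D : J ⥤ Perf p B :=
    { obj := fun T => ⟨Under.mk (CommRingCat.ofHom ((of' T).comp ((Ideal.Quotient.mk (I T)).comp MvPolynomial.C))),
        ⟨CharP.cast_eq_zero (PerfectClosure (P ⧸ I T) p) p,
          PerfectRing.bijective_frobenius (R := PerfectClosure (P ⧸ I T) p) (p := p)⟩⟩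
      map := fun {T T'} f => mkPerfHom (M f.le) (fun b => hM f.le (Ideal.Quotient.mk (I T) (MvPolynomial.C b)))
      map_id := fun T => perf_ext fun z => RingHom.congr_fun (hMid T) z
      map_comp := fun {T T' T''} f g => perf_ext fun z => RingHom.congr_fun (hMcomp f.le g.le) z }
  let c : Cocone D := Cocone.mk A
    { app := fun T => mkPerfHom (L T) (fun b =>
        (hL T (Ideal.Quotient.mk (I T) (MvPolynomial.C b))).trans (RingHom.congr_fun hπC b))
      naturality := fun T T' f => perf_ext fun z => RingHom.congr_fun (hLM f.le) z }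
  have hsurj : ∀ (T : J) (a : A.obj.right), ∃ z, L T z = a := fun T a => by
    obtain ⟨m, x, hx⟩ := hgen a
    obtain ⟨z, hz⟩ := (iterateFrobeniusEquiv (PerfectClosure (P ⧸ I T) p) p m).surjective
      (of' T (Ideal.Quotient.mk _ x))
    refine ⟨z, (iterateFrobeniusEquiv A.obj.right p m).injective ?_⟩
    rw [iterateFrobeniusEquiv_def] at hz
    rw [iterateFrobeniusEquiv_def, iterateFrobeniusEquiv_def, ← map_pow, hz, hL]
    exact hx
  have hinj : ∀ (T : J) (z z' : PerfectClosure (P ⧸ I T) p), L T z = L T z' →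
      ∃ (T' : J) (h : T ≤ T'), M h z = M h z' := fun T z z' h => by
    obtain ⟨m, y, hy⟩ := IsPRadical.pow_mem (of' T) p (z - z')
    obtain ⟨x, rfl⟩ := Ideal.Quotient.mk_surjective y
    have hx : π x = 0 := by
      have h1 := congrArg (L T) hy
      rw [hL, map_pow, map_sub, h, sub_self, zero_pow (pow_ne_zero _ (Fact.out : p.Prime).ne_zero)] at h1
      exact h1
    let T' : J := ⟨insert x T.1, fun t ht => (Finset.mem_insert.1 ht).elim (fun e => e ▸ hx) (T.2 t)⟩
    have hle : T ≤ T' := Finset.subset_insert _ _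
    refine ⟨T', hle, ?_⟩
    rw [← sub_eq_zero, ← map_sub]
    refine eq_zero_of_pow_eq_zero (n := p ^ m) ?_
    rw [← map_pow, ← hy, hM hle]
    have : trans hle (Ideal.Quotient.mk (I T) x) = 0 :=
      Ideal.Quotient.eq_zero_iff_mem.2 (Ideal.subset_span (Finset.mem_insert_self x T.1))
    rw [this, map_zero]
  obtain ⟨hc⟩ := nonempty_isColimit (c := c) (fun a => ⟨Classical.arbitrary J, hsurj _ a⟩) (fun T z z' h => by
    obtain ⟨T', hle, e⟩ := hinj T z z' h
    exact ⟨T', homOfLE hle, e⟩)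
  obtain ⟨T, s, hs⟩ := IsFinitelyPresentable.exists_hom_of_isColimit hc (𝟙 A)
  let k : PerfectClosure (P ⧸ I T) p →+* A.obj.right := PerfectRing.lift (of' T) (πT T) p
  let s' : A.obj.right →+* PerfectClosure (P ⧸ I T) p := hom' s
  have hks : ∀ a, k (s' a) = a := fun a => congrArg (fun t => hom' t a) hs
  let e : P →+* PerfectClosure (P ⧸ I T) p := s'.comp π
  let o : P →+* PerfectClosure (P ⧸ I T) p := (of' T).comp (Ideal.Quotient.mk (I T))
  have hko : ∀ x, k (o x) = π x := fun x => PerfectRing.lift_comp_apply (of' T) (πT T) p _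
  choose m y hy using fun i : Fin n => IsPRadical.pow_mem (of' T) p (e (MvPolynomial.X i))
  choose y' hy' using fun i => Ideal.Quotient.mk_surjective (y i)
  let T₀ : Finset P := T.1 ∪ Finset.univ.image fun i => MvPolynomial.X i ^ p ^ m i - y' i
  let I₀ : Ideal P := Ideal.span (T₀ : Set P)
  have hT₀ : ∀ t ∈ T₀, π t = 0 := fun t ht => by
    rcases Finset.mem_union.1 ht with ht | ht
    · exact T.2 t ht
    · obtain ⟨i, -, rfl⟩ := Finset.mem_image.1 ht
      rw [map_sub, map_pow, sub_eq_zero, ← hks (π (MvPolynomial.X i)), ← map_pow, ← hko (y' i)]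
      exact (congrArg k ((congrArg (of' T) (hy' i)).trans (hy i))).symm
  have hI₀ : ∀ x ∈ I₀, π x = 0 := fun x hx => (Ideal.span_le.2 hT₀ : I₀ ≤ RingHom.ker π) hx
  let k₀ : P ⧸ I₀ →+* A.obj.right := Ideal.Quotient.lift I₀ π hI₀
  refine ⟨P ⧸ I₀, inferInstance, inferInstance, Algebra.FinitePresentation.quotient ⟨T₀, rfl⟩, k₀,
    RingHom.ext fun b => RingHom.congr_fun hπC b, ⟨fun a => ?_, fun z hz => ?_⟩⟩
  · obtain ⟨j, x, hx⟩ := hgen a
    exact ⟨j, Ideal.Quotient.mk I₀ x, hx⟩
  · haveI : Nontrivial (P ⧸ I₀) := k₀.domain_nontrivial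
    haveI : CharP (P ⧸ I₀) p := (CharP.charP_iff_prime_eq_zero (Fact.out : p.Prime)).2 (by
      rw [← map_natCast ((Ideal.Quotient.mk I₀).comp (MvPolynomial.C : B →+* P)), CharP.cast_eq_zero, map_zero])
    let of₀ := PerfectClosure.of (P ⧸ I₀) p
    let q : PerfectClosure (P ⧸ I T) p →+* PerfectClosure (P ⧸ I₀) p := PerfectRing.lift (of' T)
      (of₀.comp (Ideal.Quotient.factor (Ideal.span_mono (Finset.coe_subset.2 Finset.subset_union_left)))) p
    have hqo : ∀ x, q (o x) = of₀ (Ideal.Quotient.mk I₀ x) := fun x => PerfectRing.lift_comp_apply _ _ p _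
    have hqe : q.comp o = q.comp e := by
      refine MvPolynomial.ringHom_ext (fun b => ?_) fun i => ?_
      · refine congrArg q ?_
        exact ((congrArg s' (RingHom.congr_fun hπC b)).trans (hom_w s b)).symm
      · refine (iterateFrobeniusEquiv (PerfectClosure (P ⧸ I₀) p) p (m i)).injective ?_
        rw [iterateFrobeniusEquiv_def, iterateFrobeniusEquiv_def]
        change q (o (MvPolynomial.X i)) ^ p ^ m i = q (e (MvPolynomial.X i)) ^ p ^ m i
        rw [← map_pow q (e _), ← hy i, ← hy' i, hqo, ← map_pow, ← map_pow]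
        refine (congrArg of₀ (Ideal.Quotient.eq.2 (Ideal.subset_span ?_))).trans (hqo (y' i)).symm
        exact Finset.mem_union_right _ (Finset.mem_image_of_mem _ (Finset.mem_univ i))
    obtain ⟨x, rfl⟩ := Ideal.Quotient.mk_surjective z
    have h0 : of₀ (Ideal.Quotient.mk I₀ x) = 0 := by
      rw [← hqo, show q (o x) = q (e x) from RingHom.congr_fun hqe x]
      change q (s' (π x)) = 0
      rw [show π x = 0 from hz, map_zero, map_zero]
    exact IsPRadical.ker_le of₀ p h0

end Nontrivial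

end Groth.Agent.H6FrobAlg
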